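import Mathlib.NumberTheory.Bertrand

/-!
# Two primes between a number and its double

Erdős's argument with one prime factor to spare, and a list of primes for the small numbers.
-/

set_option autoImplicit false

namespace Cfsg.Lib.TwoPrimes

open Nat Finset

theorem centralBinom_le (n q : ℕ) (hn : 2 < n) (huniq : ∀ p : ℕ, p.Prime → n < p → p ≤ 2 * n → p = q) :
    centralBinom n ≤ (2 * n) ^ sqrt (2 * n) * 4 ^ (2 * n / 3) * (2 * n) := by
  have n2_pos : 1 ≤ 2 * n := by omega
  let f x := x ^ n.centralBinom.factorization x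
  have hf0 : ∀ x, ¬ x.Prime → f x = 1 := fun x hx => by
    simp [f, factorization_eq_zero_of_not_prime n.centralBinom hx]
  have hbound : ∀ x, f x ≤ 2 * n := fun x => pow_factorization_choose_le (by omega)
  have hsmall : ∏ x ∈ range (2 * n / 3 + 1), f x ≤ (2 * n) ^ sqrt (2 * n) * 4 ^ (2 * n / 3) := by
    let S := {p ∈ Finset.range (2 * n / 3 + 1) | Nat.Prime p}
    have : ∏ x ∈ S, f x = ∏ x ∈ Finset.range (2 * n / 3 + 1), f x := by
      refine Finset.prod_filter_of_ne fun p _ h => ?_
      contrapose h; exact hf0 p h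
    rw [← this, ← Finset.prod_filter_mul_prod_filter_not S (· ≤ sqrt (2 * n))]
    apply mul_le_mul'
    · refine (Finset.prod_le_prod' fun p _ => hbound p).trans ?_
      have : (Finset.Icc 1 (sqrt (2 * n))).card = sqrt (2 * n) := by rw [Nat.card_Icc, Nat.add_sub_cancel]
      rw [Finset.prod_const]
      refine pow_right_mono₀ n2_pos ((Finset.card_le_card fun x hx => ?_).trans this.le)
      obtain ⟨h1, h2⟩ := Finset.mem_filter.1 hx
      exact Finset.mem_Icc.mpr ⟨(Finset.mem_filter.1 h1).2.one_lt.le, h2⟩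
    · refine le_trans ?_ (primorial_le_four_pow (2 * n / 3))
      refine (Finset.prod_le_prod' fun p hp => (?_ : f p ≤ p)).trans ?_
      · obtain ⟨h1, h2⟩ := Finset.mem_filter.1 hp
        refine (pow_right_mono₀ (Finset.mem_filter.1 h1).2.one_lt.le ?_).trans (pow_one p).le
        exact Nat.factorization_choose_le_one (sqrt_lt'.mp <| not_le.1 h2)
      refine Finset.prod_le_prod_of_subset_of_one_le' (Finset.filter_subset _ _) ?_
      exact fun p hp _ => (Finset.mem_filter.1 hp).2.one_lt.le
  have hlarge : ∏ x ∈ Finset.Ico (2 * n / 3 + 1) (2 * n + 1), f x ≤ 2 * n := by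
    by_cases hq : q ∈ Finset.Ico (2 * n / 3 + 1) (2 * n + 1)
    · rw [Finset.prod_eq_single_of_mem q hq]
      · exact hbound q
      · intro x hx hxq
        rw [Finset.mem_Ico] at hx
        by_cases hp : x.Prime
        · by_cases hxn : x ≤ n
          · show x ^ n.centralBinom.factorization x = 1
            rw [factorization_centralBinom_of_two_mul_self_lt_three_mul hn hxn (by omega), pow_zero]
          · exact absurd (huniq x hp (by omega) (by omega)) hxq
        · exact hf0 x hp
    · refine le_of_eq_of_le (Finset.prod_eq_one fun x hx => ?_) n2_pos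
      have hx' := Finset.mem_Ico.mp hx
      by_cases hp : x.Prime
      · by_cases hxn : x ≤ n
        · show x ^ n.centralBinom.factorization x = 1
          rw [factorization_centralBinom_of_two_mul_self_lt_three_mul hn hxn (by omega), pow_zero]
        · exact absurd ((huniq x hp (by omega) (by omega)) ▸ hx) hq
      · exact hf0 x hp
  rw [← n.prod_pow_factorization_centralBinom,
    ← Finset.prod_range_mul_prod_Ico _ (show 2 * n / 3 + 1 ≤ 2 * n + 1 by omega)]
  exact Nat.mul_le_mul hsmall hlarge

theorem sixteen_mul_le : ∀ k : ℕ, 8 ≤ k → 16 * (k + 1) ≤ 2 ^ k := by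
  intro k hk
  induction k, hk using Nat.le_induction with
  | base => norm_num
  | succ k hk ih => rw [pow_succ]; omega

theorem main_inequality {n : ℕ} (hn : 8192 ≤ n) :
    n * ((2 * n) ^ sqrt (2 * n) * 4 ^ (2 * n / 3) * (2 * n)) ≤ 4 ^ n := by
  set s := sqrt (2 * n) with hs
  have h128 : 128 ≤ s := Nat.le_sqrt.mpr (by omega)
  have hlt : 2 * n < (s + 1) * (s + 1) := Nat.lt_succ_sqrt (2 * n)
  have hle : s * s ≤ 2 * n := Nat.sqrt_le (2 * n)
  set k := s / 16 with hk
  have hk16 : 16 * k ≤ s := Nat.mul_div_le s 16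
  have hs1 : s + 1 ≤ 2 ^ k := le_trans (by omega) (sixteen_mul_le k (by omega))
  have h2n : 2 * n ≤ 4 ^ k := by
    rw [show (4 : ℕ) ^ k = 2 ^ k * 2 ^ k by rw [← mul_pow]; norm_num]
    exact hlt.le.trans (Nat.mul_le_mul hs1 hs1)
  have h3 : 3 * (k * (s + 2)) ≤ n := by
    have := Nat.mul_le_mul_right (s + 2) hk16
    nlinarith
  calc n * ((2 * n) ^ s * 4 ^ (2 * n / 3) * (2 * n)) ≤ (2 * n) * ((2 * n) ^ s * 4 ^ (2 * n / 3) * (2 * n)) :=
        Nat.mul_le_mul_right _ (by omega)
    _ = (2 * n) ^ (s + 2) * 4 ^ (2 * n / 3) := by ring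
    _ ≤ (4 ^ k) ^ (s + 2) * 4 ^ (2 * n / 3) := Nat.mul_le_mul_right _ (Nat.pow_le_pow_left h2n _)
    _ = 4 ^ (k * (s + 2) + 2 * n / 3) := by rw [← pow_mul, ← pow_add]
    _ ≤ 4 ^ n := Nat.pow_le_pow_right (by norm_num) (by omega)

theorem two_primes_large {n : ℕ} (hn : 8192 ≤ n) :
    ∃ p q : ℕ, p.Prime ∧ q.Prime ∧ n < p ∧ p < q ∧ q ≤ 2 * n := by
  obtain ⟨r, hr, hr1, hr2⟩ := Nat.exists_prime_lt_and_le_two_mul n (by omega)
  by_contra hcon
  have huniq : ∀ p : ℕ, p.Prime → n < p → p ≤ 2 * n → p = r := by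
    intro p hp h1 h2
    rcases lt_trichotomy p r with h | h | h
    · exact absurd ⟨p, r, hp, hr, h1, h, hr2⟩ hcon
    · exact h
    · exact absurd ⟨r, p, hr, hp, hr1, h, h2⟩ hcon
  have h1 := Nat.four_pow_lt_mul_centralBinom n (by omega)
  have h2 := (Nat.mul_le_mul_left n (centralBinom_le n r (by omega) huniq)).trans (main_inequality hn)
  omega

theorem step {n a b c : ℕ} (hb : b.Prime) (hc : c.Prime) (h1 : b < c) (h2 : c ≤ 2 * a)
    (H : b ≤ n → ∃ p q : ℕ, p.Prime ∧ q.Prime ∧ n < p ∧ p < q ∧ q ≤ 2 * n) (hn : a ≤ n) :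
    ∃ p q : ℕ, p.Prime ∧ q.Prime ∧ n < p ∧ p < q ∧ q ≤ 2 * n := by
  by_cases h : b ≤ n
  · exact H h
  · exact ⟨b, c, hb, hc, by omega, h1, by omega⟩

/-- For `n ≥ 6` there are two primes in `(n, 2n]`. -/
theorem two_primes (n : ℕ) (hn : 6 ≤ n) :
    ∃ p q : ℕ, p.Prime ∧ q.Prime ∧ n < p ∧ p < q ∧ q ≤ 2 * n := by
  refine step (a := 6) (b := 7) (c := 11) (by norm_num) (by norm_num) (by norm_num) (by norm_num) ?_ hn
  refine step (b := 11) (c := 13) (by norm_num) (by norm_num) (by norm_num) (by norm_num) ?_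
  refine step (b := 13) (c := 19) (by norm_num) (by norm_num) (by norm_num) (by norm_num) ?_
  refine step (b := 19) (c := 23) (by norm_num) (by norm_num) (by norm_num) (by norm_num) ?_
  refine step (b := 23) (c := 37) (by norm_num) (by norm_num) (by norm_num) (by norm_num) ?_
  refine step (b := 37) (c := 43) (by norm_num) (by norm_num) (by norm_num) (by norm_num) ?_
  refine step (b := 43) (c := 73) (by norm_num) (by norm_num) (by norm_num) (by norm_num) ?_
  refine step (b := 73) (c := 83) (by norm_num) (by norm_num) (by norm_num) (by norm_num) ?_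
  refine step (b := 83) (c := 139) (by norm_num) (by norm_num) (by norm_num) (by norm_num) ?_
  refine step (b := 139) (c := 163) (by norm_num) (by norm_num) (by norm_num) (by norm_num) ?_
  refine step (b := 163) (c := 277) (by norm_num) (by norm_num) (by norm_num) (by norm_num) ?_
  refine step (b := 277) (c := 317) (by norm_num) (by norm_num) (by norm_num) (by norm_num) ?_
  refine step (b := 317) (c := 547) (by norm_num) (by norm_num) (by norm_num) (by norm_num) ?_
  refine step (b := 547) (c := 631) (by norm_num) (by norm_num) (by norm_num) (by norm_num) ?_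
  refine step (b := 631) (c := 1093) (by norm_num) (by norm_num) (by norm_num) (by norm_num) ?_
  refine step (b := 1093) (c := 1259) (by norm_num) (by norm_num) (by norm_num) (by norm_num) ?_
  refine step (b := 1259) (c := 2179) (by norm_num) (by norm_num) (by norm_num) (by norm_num) ?_
  refine step (b := 2179) (c := 2503) (by norm_num) (by norm_num) (by norm_num) (by norm_num) ?_
  refine step (b := 2503) (c := 4357) (by norm_num) (by norm_num) (by norm_num) (by norm_num) ?_
  refine step (b := 4357) (c := 5003) (by norm_num) (by norm_num) (by norm_num) (by norm_num) ?_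
  refine step (b := 5003) (c := 8713) (by norm_num) (by norm_num) (by norm_num) (by norm_num) ?_
  refine step (b := 8713) (c := 9973) (by norm_num) (by norm_num) (by norm_num) (by norm_num) ?_
  exact fun h => two_primes_large (by omega)

/-- Two primes `p < q` with `n < 2p` and `q ≤ n`. -/
theorem two_primes_upper_half (n : ℕ) (hn : 11 ≤ n) :
    ∃ p q : ℕ, p.Prime ∧ q.Prime ∧ n < 2 * p ∧ p < q ∧ q ≤ n := by
  by_cases h : n = 11
  · exact ⟨7, 11, by norm_num, by norm_num, by omega, by norm_num, by omega⟩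
  · obtain ⟨p, q, hp, hq, h1, h2, h3⟩ := two_primes (n / 2) (by omega)
    exact ⟨p, q, hp, hq, by omega, h2, by omega⟩

end Cfsg.Lib.TwoPrimes
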